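import Cfsg.Agent.SL2.Tori
import Cfsg.Agent.SL2.PSLData
set_option autoImplicit false

/-!
Involutions of `PSL₂(q)`, `q` odd, and commuting pairs of them.
-/

namespace CfsgLib.SL2

open Matrix

variable {F : Type*} [Field F]

theorem tr_eq_zero_of_sq {g : SpecialLinearGroup (Fin 2) F} (h : g * g = -1) : tr g = 0 := by
  have hm : g.1 * g.1 = -1 := by
    have := congrArg (fun x : SpecialLinearGroup (Fin 2) F => (x : Matrix (Fin 2) (Fin 2) F)) h
    simpa using this
  rw [sq_eq] at hm
  have e00 := congrFun (congrFun hm 0) 0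
  have e01 := congrFun (congrFun hm 0) 1
  simp at e00 e01
  by_contra h0
  have hdet := det_eq g
  rw [e00.resolve_left h0, e01.resolve_left h0] at hdet
  simp at hdet

theorem tr_zero_sq_ne_four (h2 : (2 : F) ≠ 0) {g : SpecialLinearGroup (Fin 2) F} (h : tr g = 0) :
    tr g ^ 2 ≠ 4 := by
  rw [h]; intro hh; exact h2 (mul_self_eq_zero.mp (by linear_combination -hh))

theorem orderOf_proj_eq_two_iff (h2 : (2 : F) ≠ 0) {g : SpecialLinearGroup (Fin 2) F} :
    orderOf (proj g) = 2 ↔ tr g = 0 := by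
  constructor
  · intro hg
    have h1 : proj g ≠ 1 := fun h => by rw [h, orderOf_one] at hg; omega
    have hg2 : proj (g * g) = 1 := by
      have h := pow_orderOf_eq_one (proj g)
      rw [hg, pow_two, ← map_mul] at h
      exact h
    rcases proj_eq_one_iff.mp hg2 with h | h
    · exact absurd ((isCentral_sq h2).mp h) (not_center_of_proj_ne_one h1)
    · exact tr_eq_zero_of_sq h
  · intro h
    refine orderOf_eq_prime ?_ (fun hp => ?_)
    · rw [pow_two, ← map_mul, sq_eq_neg_one_of_tr_zero h, proj_eq_one_iff]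
      exact Or.inr rfl
    · exact not_scalar_of_tr_sq_ne (tr_zero_sq_ne_four h2 h) ((mem_center_iff g).mpr (proj_eq_one_iff.mp hp))

/-- Two trace-zero elements with images distinct and commuting: the second inverts the first. -/
theorem inverting_of_commute_proj [Finite F] (h2 : (2 : F) ≠ 0) {g h : SpecialLinearGroup (Fin 2) F}
    (hg : tr g = 0) (hh : tr h = 0) (hne : proj g ≠ proj h) (hc : proj h * proj g = proj g * proj h) :
    h * g * h⁻¹ = g⁻¹ := by
  have hinv : g⁻¹ = -g := by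
    rw [inv_eq_iff_mul_eq_one, mul_neg, sq_eq_neg_one_of_tr_zero hg, neg_neg]
  rcases commute_proj_iff.mp hc with h' | h'
  · exfalso
    apply hne
    rcases eq_or_eq_inv (tr_zero_sq_ne_four h2 hg) h' (hh.trans hg.symm) with e | e
    · rw [e]
    · rw [e, hinv, proj_eq_iff]; exact Or.inr (neg_neg g).symm
  · rw [hinv, h', neg_mul, mul_inv_cancel_right]

/-- Ordered pairs of distinct commuting involutions of `PSL₂(q)`: `4 · # = |SL₂(q)|`. -/
theorem card_commuting_involution_pairs [Fintype F] (h2 : (2 : F) ≠ 0) :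
    4 * Nat.card {p : ProjectiveSpecialLinearGroup (Fin 2) F × ProjectiveSpecialLinearGroup (Fin 2) F //
      orderOf p.1 = 2 ∧ orderOf p.2 = 2 ∧ p.1 ≠ p.2 ∧ p.2 * p.1 = p.1 * p.2} =
      Nat.card (SpecialLinearGroup (Fin 2) F) := by
  classical
  set P := {p : ProjectiveSpecialLinearGroup (Fin 2) F × ProjectiveSpecialLinearGroup (Fin 2) F //
      orderOf p.1 = 2 ∧ orderOf p.2 = 2 ∧ p.1 ≠ p.2 ∧ p.2 * p.1 = p.1 * p.2}
  set Q := {p : SpecialLinearGroup (Fin 2) F × SpecialLinearGroup (Fin 2) F //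
      tr p.1 = 0 ∧ p.2 * p.1 * (p.2)⁻¹ = (p.1)⁻¹}
  set Z := Subgroup.center (SpecialLinearGroup (Fin 2) F) with hZ
  have hZ2 : Nat.card Z = 2 := by rw [card_center, card_sq_eq_one_odd h2]
  choose s hs using proj_surjective (F := F)
  have hQmem : ∀ (x : P) (z w : Z), tr ((z : SpecialLinearGroup (Fin 2) F) * s x.1.1) = 0 ∧
      ((w : SpecialLinearGroup (Fin 2) F) * s x.1.2) * ((z : SpecialLinearGroup (Fin 2) F) * s x.1.1) *
        ((w : SpecialLinearGroup (Fin 2) F) * s x.1.2)⁻¹ = ((z : SpecialLinearGroup (Fin 2) F) * s x.1.1)⁻¹ := by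
    intro x z w
    have hp : ∀ (u : Z) y, proj ((u : SpecialLinearGroup (Fin 2) F) * s y) = y := fun u y => by
      rw [map_mul, proj_eq_one_iff.mpr ((mem_center_iff _).mp u.2), one_mul, hs]
    have h1 : tr ((z : SpecialLinearGroup (Fin 2) F) * s x.1.1) = 0 :=
      (orderOf_proj_eq_two_iff h2).mp (by rw [hp]; exact x.2.1)
    refine ⟨h1, inverting_of_commute_proj h2 h1 ((orderOf_proj_eq_two_iff h2).mp (by rw [hp]; exact x.2.2.1)) ?_ ?_⟩
    · rw [hp, hp]; exact x.2.2.2.1
    · rw [hp, hp]; exact x.2.2.2.2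
  have e1 : Nat.card Q = Nat.card P * (2 * 2) := by
    rw [← hZ2, ← Nat.card_prod, ← Nat.card_prod]
    refine (Nat.card_eq_of_bijective (fun x : P × (Z × Z) =>
      (⟨((x.2.1 : SpecialLinearGroup (Fin 2) F) * s x.1.1.1, (x.2.2 : SpecialLinearGroup (Fin 2) F) * s x.1.1.2),
        hQmem x.1 x.2.1 x.2.2⟩ : Q)) ⟨?_, ?_⟩).symm
    · rintro ⟨x, z, w⟩ ⟨x', z', w'⟩ hxx
      have h1 := congrArg (fun q : Q => q.1.1) hxx
      have h2' := congrArg (fun q : Q => q.1.2) hxx
      simp only at h1 h2'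
      have p1 := congrArg proj h1
      have p2 := congrArg proj h2'
      simp only [map_mul, proj_eq_one_iff.mpr ((mem_center_iff _).mp z.2), proj_eq_one_iff.mpr ((mem_center_iff _).mp z'.2),
        proj_eq_one_iff.mpr ((mem_center_iff _).mp w.2), proj_eq_one_iff.mpr ((mem_center_iff _).mp w'.2), one_mul, hs] at p1 p2
      obtain rfl : x = x' := Subtype.ext (Prod.ext p1 p2)
      exact Prod.ext rfl (Prod.ext (Subtype.ext (mul_right_cancel h1)) (Subtype.ext (mul_right_cancel h2')))
    · rintro ⟨⟨g, h⟩, hg, hi⟩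
      have hgt := tr_zero_sq_ne_four h2 hg
      have hnot : h ∉ Z := fun hh => inverting_not_mem hgt hi (Subgroup.center_le_centralizer _ hh)
      have hsq := inverting_sq h2 hgt hi
      have hh : tr h = 0 := tr_eq_zero_of_sq hsq
      have hne : proj g ≠ proj h := by
        intro he
        apply inverting_not_mem hgt hi
        rw [Subgroup.mem_centralizer_singleton_iff]
        rcases proj_eq_iff.mp he with e | e <;> rw [e] <;> simp
      have hc : proj h * proj g = proj g * proj h := by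
        rw [commute_proj_iff]
        right
        have hinv : g⁻¹ = -g := by
          rw [inv_eq_iff_mul_eq_one, mul_neg, sq_eq_neg_one_of_tr_zero hg, neg_neg]
        rw [hinv] at hi
        rw [mul_inv_eq_iff_eq_mul.mp hi, neg_mul]
      have hz : ∀ a : SpecialLinearGroup (Fin 2) F, a * (s (proj a))⁻¹ ∈ Z := fun a => by
        rw [hZ, mem_center_iff, ← proj_eq_one_iff, map_mul, map_inv, hs, mul_inv_cancel]
      refine ⟨(⟨(proj g, proj h), (orderOf_proj_eq_two_iff h2).mpr hg, (orderOf_proj_eq_two_iff h2).mpr hh, hne, hc⟩,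
        ⟨_, hz g⟩, ⟨_, hz h⟩), ?_⟩
      exact Subtype.ext (Prod.ext (inv_mul_cancel_right g _) (inv_mul_cancel_right h _))
  have hc0 : tr (compT (0 : F)) = 0 := tr_compT 0
  have ht0 := tr_zero_sq_ne_four h2 hc0
  set z := compT (0 : F)
  have e2 : Nat.card Q = Nat.card (SpecialLinearGroup (Fin 2) F) := by
    let e : Q ≃ Σ g : {g : SpecialLinearGroup (Fin 2) F // tr g = 0},
        {h : SpecialLinearGroup (Fin 2) F // h * g.1 * h⁻¹ = (g.1)⁻¹} :=
      { toFun := fun q => ⟨⟨q.1.1, q.2.1⟩, q.1.2, q.2.2⟩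
        invFun := fun s => ⟨(s.1.1, s.2.1), s.1.2, s.2.2⟩
        left_inv := fun q => rfl
        right_inv := fun s => rfl }
    have hfib : ∀ g : {g : SpecialLinearGroup (Fin 2) F // tr g = 0},
        Nat.card {h : SpecialLinearGroup (Fin 2) F // h * g.1 * h⁻¹ = (g.1)⁻¹} =
          Nat.card (Subgroup.centralizer ({z} : Set (SpecialLinearGroup (Fin 2) F))) := by
      intro g
      have hgt := tr_zero_sq_ne_four h2 g.2
      obtain ⟨a, ha⟩ := exists_inverting hgt
      rw [card_centralizer_eq (not_scalar_of_tr_sq_ne ht0), hc0.trans g.2.symm,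
        ← card_centralizer_eq (not_scalar_of_tr_sq_ne hgt)]
      refine (Nat.card_eq_of_bijective (fun c : Subgroup.centralizer ({g.1} : Set (SpecialLinearGroup (Fin 2) F)) =>
        (⟨a * c.1, by
          calc a * c.1 * g.1 * (a * c.1)⁻¹ = a * (c.1 * g.1) * c.1⁻¹ * a⁻¹ := by group
            _ = a * (g.1 * c.1) * c.1⁻¹ * a⁻¹ := by rw [Subgroup.mem_centralizer_singleton_iff.mp c.2]
            _ = a * g.1 * a⁻¹ := by group
            _ = (g.1)⁻¹ := ha⟩ : {h : SpecialLinearGroup (Fin 2) F // h * g.1 * h⁻¹ = (g.1)⁻¹})) ⟨?_, ?_⟩).symm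
      · intro c c' hcc
        exact Subtype.ext (mul_left_cancel (congrArg Subtype.val hcc))
      · rintro ⟨h, hh⟩
        refine ⟨⟨a⁻¹ * h, ?_⟩, Subtype.ext (mul_inv_cancel_left a h)⟩
        rw [Subgroup.mem_centralizer_singleton_iff]
        apply mul_inv_eq_iff_eq_mul.mp
        calc a⁻¹ * h * g.1 * (a⁻¹ * h)⁻¹ = a⁻¹ * (h * g.1 * h⁻¹) * a := by group
          _ = a⁻¹ * (a * g.1 * a⁻¹) * a := by rw [hh, ha]
          _ = g.1 := by group
    have hclass : Nat.card {g : SpecialLinearGroup (Fin 2) F // tr g = 0} = Nat.card (ConjClasses.mk z).carrier := by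
      refine Nat.card_congr (Equiv.subtypeEquivRight fun g => ?_)
      rw [ConjClasses.mem_carrier_iff_mk_eq, ConjClasses.mk_eq_mk_iff_isConj]
      exact ⟨fun hg => isConj_of_tr_eq' (tr_zero_sq_ne_four h2 hg) (hg.trans hc0.symm),
        fun hg => (tr_eq_of_isConj hg).trans hc0⟩
    rw [Nat.card_congr e, Nat.card_sigma, Finset.sum_congr rfl (fun g _ => hfib g), Finset.sum_const,
      Finset.card_univ, smul_eq_mul, ← Nat.card_eq_fintype_card, hclass, card_class_mul_centralizer]
  omega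

end CfsgLib.SL2
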