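import Cfsg.Agent.SL2.PSL
set_option autoImplicit false

/-!
Products of two conjugacy classes in `SL₂` and `PSL₂`, by traces.
-/

namespace CfsgLib.SL2

open Matrix

variable {F : Type*} [Field F]

theorem exists_conj_lower_ne_zero {G : SpecialLinearGroup (Fin 2) F}
    (hG : G ∉ Subgroup.center (SpecialLinearGroup (Fin 2) F)) :
    ∃ h : SpecialLinearGroup (Fin 2) F, (h * G * h⁻¹).1 1 0 ≠ 0 := by
  by_cases hc : G.1 1 0 = 0
  · by_cases hb : G.1 0 1 = 0
    · have had : G.1 0 0 ≠ G.1 1 1 :=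
        (noncentral_offdiag hG).elim (absurd hc) (fun h => h.elim (absurd hb) id)
      refine ⟨lowerU 1, ?_⟩
      simp [mul00, mul01, mul10, mul11, inv00, inv01, inv10, inv11, hc, hb]
      intro h
      exact had (by linear_combination h)
    · refine ⟨compT 0, ?_⟩
      simp [mul00, mul01, mul10, mul11, inv00, inv01, inv10, inv11, hc, hb]
  · exact ⟨1, by simpa using hc⟩

/-- A non-central element is conjugate to one with upper left entry `0` and lower left entry
non-zero. -/
theorem exists_conj_corner {G : SpecialLinearGroup (Fin 2) F}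
    (hG : G ∉ Subgroup.center (SpecialLinearGroup (Fin 2) F)) :
    ∃ h G' : SpecialLinearGroup (Fin 2) F, G' = h * G * h⁻¹ ∧ G'.1 0 0 = 0 ∧ G'.1 1 0 ≠ 0 ∧
      G'.1 0 1 = -(G'.1 1 0)⁻¹ ∧ G'.1 1 1 = tr G := by
  obtain ⟨k, hk⟩ := exists_conj_lower_ne_zero hG
  set K := k * G * k⁻¹ with hK
  set h := upperU (-K.1 0 0 / K.1 1 0) * k with hh
  set G' := h * G * h⁻¹ with hG'
  have e : G' = upperU (-K.1 0 0 / K.1 1 0) * K * (upperU (-K.1 0 0 / K.1 1 0))⁻¹ := by
    rw [hG', hh, hK]; group
  have h00 : G'.1 0 0 = 0 := by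
    rw [e]; simp [mul00, mul01, mul10, mul11, inv00, inv01, inv10, inv11]; field_simp; ring
  have h10 : G'.1 1 0 = K.1 1 0 := by
    rw [e]; simp [mul00, mul01, mul10, mul11, inv00, inv01, inv10, inv11]
  refine ⟨h, G', rfl, h00, h10 ▸ hk, ?_, ?_⟩
  · have := det_eq G'
    rw [h00, zero_mul, zero_sub] at this
    rw [eq_neg_iff_add_eq_zero]
    have hne : G'.1 1 0 ≠ 0 := h10 ▸ hk
    field_simp
    linear_combination -this
  · have : tr G' = tr G := (tr_eq_of_isConj (isConj_iff.mpr ⟨h, rfl⟩)).symm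
    rw [tr, h00, zero_add] at this
    exact this

/-- The conic of pairs of elements of trace `t` with product of trace `s` has a point. -/
theorem exists_conic [Finite F] (s t : F)
    (h : s ^ 2 ≠ 4 ∨ (s = -2 ∧ t ≠ 0 ∧ (2 : F) ≠ 0) ∨ ((2 : F) = 0 ∧ ∃ r : F, r * r - t * r + 1 = 0)) :
    ∃ w y : F, w ^ 2 + s * w * y + y ^ 2 - t * (w + y) + 1 = 0 := by
  by_cases hs : s ^ 2 = 4
  · rcases h.resolve_left (not_not_intro hs) with ⟨rfl, ht, h2⟩ | ⟨h2, r, hr⟩
    · exact ⟨1 / (2 * t), 1 / (2 * t), by field_simp; ring⟩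
    · have hs0 : s = 0 := mul_self_eq_zero.mp (by linear_combination hs + 2 * h2)
      exact ⟨r, 0, by rw [hs0]; linear_combination hr⟩
  · have hs2 : s + 2 ≠ 0 := fun h' => hs (by linear_combination (s - 2) * h')
    set α := t / (s + 2) with hα
    obtain ⟨w, y, hwy⟩ := exists_rep 1 s 1 (t * α - 1) (Or.inl one_ne_zero)
      (Or.inl (by intro h'; exact hs (by linear_combination h')))
    refine ⟨w + α, y + α, ?_⟩
    have hαt : α * (s + 2) = t := div_mul_cancel₀ _ hs2
    linear_combination hwy + (w + y + α) * hαt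

/-- An element of trace `t` whose inverse times `G` also has trace `t`. -/
theorem exists_trace_pair [Finite F] {G : SpecialLinearGroup (Fin 2) F}
    (hG : G ∉ Subgroup.center (SpecialLinearGroup (Fin 2) F)) (t : F)
    (hc : ∃ w y : F, w ^ 2 + tr G * w * y + y ^ 2 - t * (w + y) + 1 = 0) :
    ∃ Y : SpecialLinearGroup (Fin 2) F, tr Y = t ∧ tr (Y⁻¹ * G) = t := by
  obtain ⟨h, G', hG', h00, h10, h01, h11⟩ := exists_conj_corner hG
  obtain ⟨w, y, hwy⟩ := hc
  set c := G'.1 1 0
  set s := tr G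
  let x := (t * s - t + y - (t - w) * s) / c
  let Z : SpecialLinearGroup (Fin 2) F := mk2 w ((w * s - t + y) / c) (y * c) (t - w)
    (by field_simp; linear_combination -hwy)
  refine ⟨h⁻¹ * Z * h, ?_, ?_⟩
  · rw [← tr_eq_of_isConj (g := Z) (isConj_iff.mpr ⟨h⁻¹, by group⟩)]
    simp [Z, tr]
  · have e : (h⁻¹ * Z * h)⁻¹ * G = h⁻¹ * (Z⁻¹ * G') * h := by rw [hG']; group
    rw [e, ← tr_eq_of_isConj (g := Z⁻¹ * G') (isConj_iff.mpr ⟨h⁻¹, by group⟩)]
    simp only [tr, mul00, mul11, inv00, inv01, inv10, inv11, h00, h01, h11]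
    simp [Z, c]
    have h10' : G'.1 1 0 ≠ 0 := h10
    field_simp
    ring

/-- In `PSL₂` a non-identity element is a product of two conjugates of a semisimple one, as
soon as the conic has a point for some lift. -/
theorem proj_mul_of_trace [Finite F] {X G : SpecialLinearGroup (Fin 2) F} (hX : tr X ^ 2 ≠ 4)
    (hG : G ∉ Subgroup.center (SpecialLinearGroup (Fin 2) F))
    (hc : ∃ w y : F, w ^ 2 + tr G * w * y + y ^ 2 - tr X * (w + y) + 1 = 0) :
    ∃ u v, proj G = (u * proj X * u⁻¹) * (v * proj X * v⁻¹) := by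
  obtain ⟨Y, hY, hY'⟩ := exists_trace_pair hG _ hc
  obtain ⟨u, hu⟩ := isConj_iff.mp (isConj_of_tr_eq' hX hY.symm)
  obtain ⟨v, hv⟩ := isConj_iff.mp (isConj_of_tr_eq' hX hY'.symm)
  exact ⟨proj u, proj v, by rw [← map_inv, ← map_inv, ← map_mul, ← map_mul, ← map_mul, ← map_mul,
    ← map_mul, hu, hv, mul_inv_cancel_left]⟩

/-- The traces of the products of two fixed classes are not confined to a pair `± r`. -/
theorem exists_tr_mul_ne [Finite F] {A B : SpecialLinearGroup (Fin 2) F}
    (hA : A ∉ Subgroup.center (SpecialLinearGroup (Fin 2) F))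
    (hB : B ∉ Subgroup.center (SpecialLinearGroup (Fin 2) F)) (h4 : 4 ≤ Nat.card F) (r : F) :
    ∃ u v : SpecialLinearGroup (Fin 2) F,
      tr ((u * A * u⁻¹) * (v * B * v⁻¹)) ≠ r ∧ tr ((u * A * u⁻¹) * (v * B * v⁻¹)) ≠ -r := by
  classical
  have := Fintype.ofFinite F
  obtain ⟨u, A', hA', a00, a10, a01, a11⟩ := exists_conj_corner hA
  obtain ⟨v, B', hB', b00, b10, b01, b11⟩ := exists_conj_corner hB
  set c := A'.1 1 0
  set e := B'.1 1 0
  set s := tr A
  set k := tr B
  set f : F → F := fun x => -e / c + c * (-e * x ^ 2 + k * x - 1 / e) + s * (k - e * x) with hf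
  have key : ∀ x, tr (A' * (upperU x * B' * (upperU x)⁻¹)) = f x := fun x => by
    simp only [tr, mul00, mul01, mul10, mul11, inv00, inv01, inv10, inv11, a00, a01, a11, b00, b01, b11]
    simp [hf, c, e]
    have a10' : A'.1 1 0 ≠ 0 := a10
    have b10' : B'.1 1 0 ≠ 0 := b10
    field_simp
    ring
  suffices ∃ x, f x ≠ r ∧ f x ≠ -r by
    obtain ⟨x, h1, h2⟩ := this
    refine ⟨u, upperU x * v, ?_⟩
    have : u * A * u⁻¹ * (upperU x * v * B * (upperU x * v)⁻¹) = A' * (upperU x * B' * (upperU x)⁻¹) := by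
      rw [hA', hB']; group
    rw [this, key]
    exact ⟨h1, h2⟩
  by_contra hcon
  push Not at hcon
  have hfib : ∀ z : F, (Finset.univ.filter fun x => f x = z).card ≤ 2 := by
    intro z
    by_contra hh
    obtain ⟨x₁, hx₁, x₂, hx₂, x₃, hx₃, h12, h13, h23⟩ := Finset.two_lt_card.mp (not_le.mp hh)
    simp only [Finset.mem_filter, Finset.mem_univ, true_and] at hx₁ hx₂ hx₃
    have hce : c * e ≠ 0 := mul_ne_zero a10 b10
    simp only [hf] at hx₁ hx₂ hx₃
    have p12 : (x₁ - x₂) * (-(c * e) * (x₁ + x₂) + c * k - s * e) = 0 := by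
      linear_combination hx₁ - hx₂
    have p13 : (x₁ - x₃) * (-(c * e) * (x₁ + x₃) + c * k - s * e) = 0 := by
      linear_combination hx₁ - hx₃
    have q12 := (mul_eq_zero.mp p12).resolve_left (sub_ne_zero.mpr h12)
    have q13 := (mul_eq_zero.mp p13).resolve_left (sub_ne_zero.mpr h13)
    have : (c * e) * (x₂ - x₃) = 0 := by linear_combination q13 - q12
    exact h23 (sub_eq_zero.mp ((mul_eq_zero.mp this).resolve_left hce))
  have hle : Nat.card F ≤ (Finset.univ.filter fun x => f x = r).card +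
      (Finset.univ.filter fun x => f x = -r).card := by
    rw [Nat.card_eq_fintype_card]
    refine le_trans ?_ (Finset.card_union_le _ _)
    refine le_of_eq (congrArg Finset.card ?_)
    ext x
    simp only [Finset.mem_univ, Finset.mem_union, Finset.mem_filter, true_and, true_iff]
    exact Classical.or_iff_not_imp_left.mpr (hcon x)
  by_cases h2 : (2 : F) = 0
  · have hr : -r = r := by linear_combination (-r) * h2
    have hsub : (Finset.univ : Finset F) ⊆ Finset.univ.filter fun x => f x = r := fun x _ => by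
      simp only [Finset.mem_filter, Finset.mem_univ, true_and]
      by_contra hx
      exact hx ((hcon x hx).trans hr)
    have := (Finset.card_le_card hsub).trans (hfib r)
    rw [Finset.card_univ, ← Nat.card_eq_fintype_card] at this
    omega
  · have hodd : Fintype.card F % 2 = 1 := by
      refine FiniteField.odd_card_of_char_ne_two fun hr => h2 ?_
      have : CharP F 2 := ringChar.of_eq hr
      exact CharTwo.two_eq_zero
    have h1 := hfib r
    have h1' := hfib (-r)
    rw [Nat.card_eq_fintype_card] at h4 hle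
    omega

end CfsgLib.SL2
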